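import Cfsg.Agent.H15.FF4
import Cfsg.Agent.H15.IC.M23
import Cfsg.Agent.S2063
import Cfsg.Agent.H15.Mathieu

/-! Generated by tools/h15/ff/ff.py (kit tools/h0/tr). -/

set_option maxRecDepth 100000
set_option maxHeartbeats 0

namespace H15.FF.M23
open H16 H0.TR
open H15.QS H15.UB H15.FF
open H5.FF hiding Good PC
open scoped commutatorElement Pointwise

noncomputable def pt_W : List (List ℕ) := [[nat_lit 0, nat_lit 4, nat_lit 4, nat_lit 0, nat_lit 4, nat_lit 4],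
  [nat_lit 1, nat_lit 4, nat_lit 4, nat_lit 1],
  [nat_lit 0, nat_lit 1, nat_lit 4, nat_lit 2, nat_lit 4, nat_lit 2],
  [nat_lit 0, nat_lit 2, nat_lit 3, nat_lit 0],
  [nat_lit 0, nat_lit 4, nat_lit 4, nat_lit 0, nat_lit 3, nat_lit 3],
  [nat_lit 2, nat_lit 2, nat_lit 3, nat_lit 2],
  [nat_lit 3, nat_lit 2, nat_lit 4, nat_lit 4, nat_lit 2]]
noncomputable def pt_P : ℕ → ℕ → ℕ := wdsP H15.IC.M23.c0ace_P pt_W
noncomputable def pPd : List ℕ := [nat_lit 0x149ca2773d052254d8058b10cc0,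
  nat_lit 0x149ca25188c7491616360a7b900,
  nat_lit 0x149ca2f81c824182b7286d2b120,
  nat_lit 0x13a464510da72254861a0b73c20,
  nat_lit 0x149c64a305841bdc54c162434e0,
  nat_lit 0x128ce8e615025116d7986981c20,
  nat_lit 0x119526b304a978c4c21d4e43600]
noncomputable def pP (k u : ℕ) : ℕ := Nat.land (Nat.shiftRight (nth (nat_lit 0) pPd k) (Nat.mul u (nat_lit 5))) (nat_lit 31)
noncomputable def pEd : ℕ := nat_lit 0x14620959ca307b9ab49cc518820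
noncomputable def pE (u : ℕ) : ℕ := Nat.land (Nat.shiftRight pEd (Nat.mul u (nat_lit 5))) (nat_lit 31)
noncomputable def pId : ℕ := nat_lit 0x2147b9ac5a933400f23149118820
noncomputable def pI (u : ℕ) : ℕ := Nat.land (Nat.shiftRight pId (Nat.mul u (nat_lit 5))) (nat_lit 31)
noncomputable def pB : List ℕ := [nat_lit 0, nat_lit 1, nat_lit 2, nat_lit 3, nat_lit 4, nat_lit 17]
noncomputable def pC : List (List (List ℕ)) := [[[],
  [],
  [],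
  [],
  [],
  [],
  []], [[],
  [],
  [],
  [],
  [nat_lit 0],
  [nat_lit 0],
  [nat_lit 0]], [[],
  [],
  [],
  [nat_lit 0],
  [],
  [nat_lit 1],
  [nat_lit 0, nat_lit 1]], [[],
  [],
  [],
  [],
  [nat_lit 1],
  [],
  [nat_lit 1]], [[],
  [],
  [],
  [],
  [nat_lit 2],
  [nat_lit 1, nat_lit 2, nat_lit 3],
  [nat_lit 0, nat_lit 1, nat_lit 3]], [[],
  [],
  [],
  [],
  [],
  [nat_lit 3],
  [nat_lit 0, nat_lit 2]], [[],
  [],
  [],
  [],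
  [],
  [],
  [nat_lit 0, nat_lit 1, nat_lit 2, nat_lit 3]]]
noncomputable def pe : List (List ℕ) := [[nat_lit 5],
  [],
  [nat_lit 5],
  [nat_lit 3],
  [nat_lit 3],
  [nat_lit 5],
  [nat_lit 3],
  [nat_lit 5],
  [],
  [nat_lit 3],
  [nat_lit 3],
  [nat_lit 5],
  [],
  [nat_lit 3],
  [],
  [nat_lit 3],
  [],
  [nat_lit 5],
  [nat_lit 3],
  [],
  [nat_lit 3],
  [nat_lit 3],
  [],
  [],
  [nat_lit 3],
  [nat_lit 5],
  [nat_lit 3, nat_lit 5],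
  [nat_lit 0, nat_lit 4, nat_lit 5, nat_lit 6],
  [nat_lit 4]]
noncomputable def pl0Dd : ℕ := nat_lit 0x9fc8a08ca56a40ee74399586e39100743800
noncomputable def pl0D (u : ℕ) : ℕ := Nat.land (Nat.shiftRight pl0Dd (Nat.mul u (nat_lit 9))) (nat_lit 511)
noncomputable def pl0Pd : ℕ := nat_lit 0x6898f41d44598a91c1c1
noncomputable def pl0P (u : ℕ) : ℕ := Nat.land (Nat.shiftRight pl0Pd (Nat.mul u (nat_lit 5))) (nat_lit 31)
noncomputable def pl0Qd : ℕ := nat_lit 0x2c1fd794ba6583e00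
noncomputable def pl0Q (u : ℕ) : ℕ := Nat.land (Nat.shiftRight pl0Qd (Nat.mul u (nat_lit 4))) (nat_lit 15)
noncomputable def pl0 : H16.Lev := ⟨16, 29, pl0D, pl0P, pl0Q⟩
noncomputable def pl1Dd : ℕ := nat_lit 0xe14db9b340c000
noncomputable def pl1D (u : ℕ) : ℕ := Nat.land (Nat.shiftRight pl1Dd (Nat.mul u (nat_lit 7))) (nat_lit 127)
noncomputable def pl1Pd : ℕ := nat_lit 0x740653bd82
noncomputable def pl1P (u : ℕ) : ℕ := Nat.land (Nat.shiftRight pl1Pd (Nat.mul u (nat_lit 5))) (nat_lit 31)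
noncomputable def pl1Qd : ℕ := nat_lit 0x65c1000620a00
noncomputable def pl1Q (u : ℕ) : ℕ := Nat.land (Nat.shiftRight pl1Qd (Nat.mul u (nat_lit 3))) (nat_lit 7)
noncomputable def pl1 : H16.Lev := ⟨8, 28, pl1D, pl1P, pl1Q⟩
noncomputable def cvr_W : List (List ℕ) := [[nat_lit 0, nat_lit 4, nat_lit 4, nat_lit 0, nat_lit 4, nat_lit 4],
  [nat_lit 4, nat_lit 4],
  [nat_lit 0]]
noncomputable def cvr_P : ℕ → ℕ → ℕ := wdsP H15.IC.M23.c0ace_P cvr_W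
noncomputable def cvT0 : H0.TR.CT := (.split (.more (.split (.more (.split (.more (.split (.more (.split (.more (.split (.more (.split (.more .one (.more (.leaf (nat_lit 0) []) .one))) (.more (.fuse [nat_lit 4] [] (.leaf (nat_lit 1) [nat_lit 1])) .one))) (.more (.fuse [nat_lit 5] [] (.fuse [nat_lit 3] [] (.leaf (nat_lit 1) [nat_lit 0, nat_lit 2]))) .one))) (.more (.split (.more (.fuse [nat_lit 4] [] (.fuse [nat_lit 2] [] (.leaf (nat_lit 2) [nat_lit 1, nat_lit 2, nat_lit 3, nat_lit 2]))) (.more (.fuse [nat_lit 4] [] (.fuse [nat_lit 2] [] (.prune (nat_lit 0) (nat_lit 1) []))) .one))) .one))) (.more (.fuse [nat_lit 5] [nat_lit 2] (.fuse [nat_lit 5, nat_lit 6] [] (.prune (nat_lit 2) (nat_lit 1) []))) .one))) (.more (.split (.more (.fuse [nat_lit 4] [nat_lit 0, nat_lit 2] (.prune (nat_lit 3) (nat_lit 1) [])) (.more (.fuse [nat_lit 4] [nat_lit 1, nat_lit 2] (.split (.more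 (.fuse [nat_lit 2] [] (.fuse [nat_lit 2, nat_lit 3] [] (.prune (nat_lit 0) (nat_lit 1) []))) (.more (.fuse [nat_lit 2] [] (.prune (nat_lit 1) (nat_lit 1) [nat_lit 0])) .one)))) .one))) .one))) (.more (.split (.more (.split (.more (.fuse [nat_lit 4] [nat_lit 0] (.prune (nat_lit 3) (nat_lit 1) [nat_lit 0, nat_lit 1, nat_lit 2])) (.more (.fuse [nat_lit 4] [nat_lit 1] (.split (.more (.fuse [nat_lit 2] [nat_lit 0] (.prune (nat_lit 1) (nat_lit 1) [nat_lit 0])) (.more (.fuse [nat_lit 2] [nat_lit 0] (.fuse [nat_lit 2, nat_lit 4, nat_lit 5] [] (.leaf (nat_lit 2) [nat_lit 3, nat_lit 0, nat_lit 3]))) .one)))) .one))) (.more (.split (.more (.split (.more (.fuse [nat_lit 4] [] (.fuse [nat_lit 3] [] (.fuse [nat_lit 3, nat_lit 4, nat_lit 5] [] (.leaf (nat_lit 1) [nat_lit 2, nat_lit 2])))) (.more (.fuse [nat_lit 4] [nat_lit 0, nat_lit 1] (.fuse [nat_lit 3] [] (.prune (nat_lit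 1) (nat_lit 1) []))) .one))) (.more (.fuse [nat_lit 5] [] (.fuse [nat_lit 4] [] (.split (.more (.fuse [nat_lit 1] [] (.leaf (nat_lit 2) [nat_lit 4, nat_lit 3, nat_lit 2, nat_lit 2])) (.more (.fuse [nat_lit 1] [] (.prune (nat_lit 0) (nat_lit 1) [])) .one))))) .one))) .one))) .one)))
noncomputable def w_W : List (List ℕ) := [[nat_lit 3, nat_lit 5, nat_lit 6, nat_lit 7, nat_lit 6, nat_lit 8, nat_lit 7, nat_lit 6, nat_lit 3],
  [nat_lit 4, nat_lit 0, nat_lit 1, nat_lit 3, nat_lit 6, nat_lit 1, nat_lit 7, nat_lit 6, nat_lit 0, nat_lit 3, nat_lit 8, nat_lit 7, nat_lit 6, nat_lit 0, nat_lit 8, nat_lit 7],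
  [nat_lit 4, nat_lit 6, nat_lit 1, nat_lit 2, nat_lit 7, nat_lit 6, nat_lit 1, nat_lit 7, nat_lit 6, nat_lit 8, nat_lit 7, nat_lit 6, nat_lit 0, nat_lit 8, nat_lit 6],
  [nat_lit 1, nat_lit 5, nat_lit 6, nat_lit 0, nat_lit 2, nat_lit 7, nat_lit 6, nat_lit 0, nat_lit 3, nat_lit 8, nat_lit 7, nat_lit 6, nat_lit 1],
  [nat_lit 1, nat_lit 3, nat_lit 6, nat_lit 0, nat_lit 2, nat_lit 7, nat_lit 6, nat_lit 1, nat_lit 3, nat_lit 6, nat_lit 8, nat_lit 7, nat_lit 6, nat_lit 1, nat_lit 3],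
  [nat_lit 0, nat_lit 1, nat_lit 3],
  [nat_lit 0],
  [nat_lit 8, nat_lit 0, nat_lit 1, nat_lit 2, nat_lit 3, nat_lit 5, nat_lit 6, nat_lit 0, nat_lit 7, nat_lit 6, nat_lit 1, nat_lit 2, nat_lit 8, nat_lit 7],
  [nat_lit 2, nat_lit 4, nat_lit 6, nat_lit 1, nat_lit 7, nat_lit 6, nat_lit 0, nat_lit 8, nat_lit 7, nat_lit 6, nat_lit 0, nat_lit 8, nat_lit 9, nat_lit 8, nat_lit 7, nat_lit 6, nat_lit 0, nat_lit 2, nat_lit 6, nat_lit 3, nat_lit 2],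
  [nat_lit 4, nat_lit 7],
  [nat_lit 2, nat_lit 5],
  [nat_lit 2, nat_lit 7]]
noncomputable def w_P : ℕ → ℕ → ℕ := wdsP H15.MM23.P w_W
noncomputable def v_W : List (List ℕ) := [[nat_lit 4, nat_lit 0, nat_lit 1, nat_lit 3, nat_lit 6, nat_lit 1, nat_lit 7, nat_lit 6, nat_lit 0, nat_lit 3, nat_lit 8, nat_lit 7, nat_lit 6, nat_lit 0, nat_lit 8, nat_lit 7],
  [nat_lit 4, nat_lit 6, nat_lit 1, nat_lit 2, nat_lit 7, nat_lit 6, nat_lit 1, nat_lit 7, nat_lit 6, nat_lit 8, nat_lit 7, nat_lit 6, nat_lit 0, nat_lit 8, nat_lit 6],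
  [nat_lit 1, nat_lit 5, nat_lit 6, nat_lit 0, nat_lit 2, nat_lit 7, nat_lit 6, nat_lit 0, nat_lit 3, nat_lit 8, nat_lit 7, nat_lit 6, nat_lit 1],
  [nat_lit 1, nat_lit 3, nat_lit 6, nat_lit 0, nat_lit 2, nat_lit 7, nat_lit 6, nat_lit 1, nat_lit 3, nat_lit 6, nat_lit 8, nat_lit 7, nat_lit 6, nat_lit 1, nat_lit 3]]
noncomputable def v_P : ℕ → ℕ → ℕ := wdsP H15.MM23.P v_W
noncomputable def tTd : List ℕ := [nat_lit 0,
  nat_lit 0x58c55845a573ce934a61,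
  nat_lit 0x91c256ce153246f72e22,
  nat_lit 0x984ef748c9854456c563,
  nat_lit 0x726a29b62159de391a05,
  nat_lit 0x21084210842108421084]
noncomputable def tT (k u : ℕ) : ℕ := Nat.land (Nat.shiftRight (nth (nat_lit 0) tTd k) (Nat.mul u (nat_lit 5))) (nat_lit 31)
noncomputable def tNd : List ℕ := [nat_lit 0xefa98dcb43276501,
  nat_lit 0xdaf76e43cb198052,
  nat_lit 0xc97f54e2d1ba0863,
  nat_lit 0xb865f32e1dc0a974]
noncomputable def tN (k u : ℕ) : ℕ := Nat.land (Nat.shiftRight (nth (nat_lit 0) tNd k) (Nat.mul u (nat_lit 4))) (nat_lit 15)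
noncomputable def nvW : List (List (List ℕ)) := [[[nat_lit 1],
  [nat_lit 0],
  [nat_lit 1, nat_lit 3],
  [nat_lit 0, nat_lit 2]], [[nat_lit 0, nat_lit 1, nat_lit 2, nat_lit 3],
  [nat_lit 2, nat_lit 3],
  [nat_lit 0, nat_lit 3],
  [nat_lit 0, nat_lit 1, nat_lit 3]], [[nat_lit 0, nat_lit 1, nat_lit 3],
  [nat_lit 3],
  [nat_lit 0],
  [nat_lit 0, nat_lit 1, nat_lit 2]], [[nat_lit 0, nat_lit 1, nat_lit 2],
  [nat_lit 2],
  [nat_lit 3],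
  [nat_lit 0, nat_lit 2, nat_lit 3]], [[nat_lit 0],
  [nat_lit 1],
  [nat_lit 0, nat_lit 2],
  [nat_lit 1, nat_lit 3]]]
noncomputable def x_W : List (List ℕ) := [[nat_lit 3, nat_lit 6, nat_lit 7, nat_lit 6, nat_lit 3, nat_lit 8, nat_lit 7, nat_lit 6, nat_lit 2],
  [nat_lit 3, nat_lit 6, nat_lit 2, nat_lit 3, nat_lit 7, nat_lit 6, nat_lit 8, nat_lit 7, nat_lit 6, nat_lit 2]]
noncomputable def x_P : ℕ → ℕ → ℕ := wdsP H15.MM23.P x_W
noncomputable def h_W : List (List ℕ) := [[nat_lit 3, nat_lit 5, nat_lit 6, nat_lit 7, nat_lit 6, nat_lit 8, nat_lit 7, nat_lit 6, nat_lit 3],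
  [nat_lit 3, nat_lit 6, nat_lit 3, nat_lit 8, nat_lit 7]]
noncomputable def h_P : ℕ → ℕ → ℕ := wdsP H15.MM23.P h_W
noncomputable def y2_W : List (List ℕ) := [[nat_lit 0],
  [nat_lit 0],
  [nat_lit 1],
  [nat_lit 2],
  [nat_lit 3],
  [nat_lit 4]]
noncomputable def y2_P : ℕ → ℕ → ℕ := wdsP H15.IC.M23.c0ace_P y2_W
noncomputable def fr_W : List (List ℕ) := [[nat_lit 5, nat_lit 6, nat_lit 2, nat_lit 8, nat_lit 7, nat_lit 6, nat_lit 1, nat_lit 3, nat_lit 6, nat_lit 9, nat_lit 8, nat_lit 7, nat_lit 6, nat_lit 3],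
  [nat_lit 2, nat_lit 4, nat_lit 7, nat_lit 6, nat_lit 1, nat_lit 7, nat_lit 6, nat_lit 8, nat_lit 7, nat_lit 6, nat_lit 0, nat_lit 3]]
noncomputable def fr_P : ℕ → ℕ → ℕ := wdsP H15.MM23.P fr_W
noncomputable def c0f_W : List (List ℕ) := [[nat_lit 3, nat_lit 5, nat_lit 6, nat_lit 7, nat_lit 6, nat_lit 8, nat_lit 7, nat_lit 6, nat_lit 3],
  [nat_lit 2, nat_lit 4, nat_lit 7, nat_lit 6, nat_lit 1, nat_lit 7, nat_lit 6, nat_lit 8, nat_lit 7, nat_lit 6, nat_lit 0, nat_lit 3],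
  [nat_lit 6, nat_lit 1, nat_lit 3, nat_lit 6, nat_lit 7, nat_lit 6, nat_lit 2, nat_lit 3, nat_lit 8, nat_lit 7, nat_lit 6, nat_lit 0, nat_lit 2, nat_lit 6, nat_lit 9, nat_lit 8, nat_lit 7, nat_lit 6],
  [nat_lit 0, nat_lit 2, nat_lit 3]]
noncomputable def c0f_P : ℕ → ℕ → ℕ := wdsP H15.MM23.P c0f_W

theorem pt_lt : H16.allL (ltAll 5) pt_W = true := by decide +kernel
theorem p_r_a : allZ2 (resEnt pt_P pP pE pI (nat_lit 24) (nat_lit 21)) (nat_lit 7) (nat_lit 21) = true := by decide +kernel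
theorem p_b : neL H15.MM23.B (pB.map pE) = 0 ∧ ltAll 21 pB = 0 := by decide +kernel
theorem p_p : allZ2 (pcEnt pP (nat_lit 2) pB pC) 7 7 = true := by decide +kernel
theorem p_e : H16.allL (ltAll 7) pe = true := by decide +kernel
theorem pl0_e_0 : allZ (dent pl0 (wdsP pP pe) (nat_lit 21)) (nat_lit 0) (nat_lit 15) = true := by decide +kernel
theorem pl0_h : 0 < pl0.n ∧ 0 < pl0.K ∧ pl0.Pt 0 < 21 ∧ pl0.Q (pl0.Pt 0) = 0 := by decide +kernel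
theorem pl1_e_0 : allZ (dent pl1 (wdsP pP pe) (nat_lit 21)) (nat_lit 0) (nat_lit 7) = true := by decide +kernel
theorem pl1_h : 0 < pl1.n ∧ 0 < pl1.K ∧ pl1.Pt 0 < 21 ∧ pl1.Q (pl1.Pt 0) = 0 := by decide +kernel
theorem p_f1 : (Nat.ble pl1.K 29 && Nat.ble (topK []) pl1.K && fixLetters (wdsP pP pe) (topK []) (pl1.Pt 0)) = true := by decide +kernel
theorem p_f0 : (Nat.ble pl0.K 29 && Nat.ble (topK [pl1]) pl0.K && fixLetters (wdsP pP pe) (topK [pl1]) (pl0.Pt 0)) = true := by decide +kernel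
theorem p_c : chainCard [pl0, pl1] = 2 ^ 7 ∧ ¬ 2 ^ (7 + 1) ∣ 2688 := by decide +kernel
theorem cvr_lt : H16.allL (ltAll 5) cvr_W = true := by decide +kernel
theorem cv_c0 : (Nat.ble 7 7 && Nat.beq (ltAll 7 []) 0 && Nat.beq (cvT0.chk H15.IC.M23.c0ace_P pP cvr_P pE 5 7 2 2 3 pB 7 [] 0) 0) = true := by decide +kernel
theorem w_lt : H16.allL (ltAll 10) w_W = true := by decide +kernel
theorem v_lt : H16.allL (ltAll 10) v_W = true := by decide +kernel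
theorem t_k_a : allZ2 (tupEnt v_P tT tN (nat_lit 24) (nat_lit 16) (nat_lit 6)) (nat_lit 4) (nat_lit 16) = true := by decide +kernel
theorem t_b : 0 < 16 ∧ ∀ β ∈ H15.MM23.B, ∃ j < 6, tT j 0 = β := by decide +kernel
theorem nv_k_a : allZ2 (nrmEnt v_P H15.IC.M23.c0ace_P (nat_lit 4) H15.MM23.B nvW) (nat_lit 5) (nat_lit 4) = true := by decide +kernel
theorem rv0_k : Nat.add (ltAll 4 [nat_lit 0, nat_lit 1]) (sumL (fun β => Nat.xor (cvr_P 0 β) (apW v_P [nat_lit 0, nat_lit 1] β)) H15.MM23.B) = 0 := by decide +kernel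
theorem rv1_k : Nat.add (ltAll 4 [nat_lit 0]) (sumL (fun β => Nat.xor (cvr_P 1 β) (apW v_P [nat_lit 0] β)) H15.MM23.B) = 0 := by decide +kernel
theorem rw0_k : Nat.add (ltAll 12 [nat_lit 0]) (sumL (fun β => Nat.xor (cvr_P 0 β) (apW w_P [nat_lit 0] β)) H15.MM23.B) = 0 := by decide +kernel
theorem rw1_k : Nat.add (ltAll 12 [nat_lit 1]) (sumL (fun β => Nat.xor (cvr_P 1 β) (apW w_P [nat_lit 1] β)) H15.MM23.B) = 0 := by decide +kernel
theorem n0_k : 1 < 24 ∧ ltAll 12 (List.replicate 1 0) = 0 ∧ ltAll 12 [] = 0 ∧ apW w_P (List.replicate 1 0) 1 ≠ apW w_P [] 1 := by decide +kernel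
theorem c9_k : eqL w_P 12 H15.MM23.B [nat_lit 0, nat_lit 9] [nat_lit 9, nat_lit 0] = 0 := by decide +kernel
theorem c10_k : eqL w_P 12 H15.MM23.B [nat_lit 0, nat_lit 10] [nat_lit 10, nat_lit 0] = 0 := by decide +kernel
theorem c11_k : eqL w_P 12 H15.MM23.B [nat_lit 0, nat_lit 11] [nat_lit 11, nat_lit 0] = 0 := by decide +kernel
theorem j2_k : eqL w_P 12 H15.MM23.B [nat_lit 1, nat_lit 9] [nat_lit 9, nat_lit 2] = 0 := by decide +kernel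
theorem j3_k : eqL w_P 12 H15.MM23.B [nat_lit 1, nat_lit 10] [nat_lit 10, nat_lit 3] = 0 := by decide +kernel
theorem j4_k : eqL w_P 12 H15.MM23.B [nat_lit 1, nat_lit 11] [nat_lit 11, nat_lit 4] = 0 := by decide +kernel
theorem j5_k : eqL w_P 12 H15.MM23.B [nat_lit 1, nat_lit 8] [nat_lit 8, nat_lit 5] = 0 := by decide +kernel
theorem j6_k : eqL w_P 12 H15.MM23.B [nat_lit 2, nat_lit 8] [nat_lit 8, nat_lit 6] = 0 := by decide +kernel
theorem ze_k : Nat.add (ltAll 12 [nat_lit 1, nat_lit 5, nat_lit 2, nat_lit 6]) (sumL (fun β => Nat.xor (w_P 7 β) (apW w_P [nat_lit 1, nat_lit 5, nat_lit 2, nat_lit 6] β)) H15.MM23.B) = 0 := by decide +kernel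
theorem z1_k : fixL w_P 12 H15.MM23.B (List.replicate 11 7) = 0 := by decide +kernel
theorem z2_k : 1 < 24 ∧ ltAll 12 (List.replicate 1 7) = 0 ∧ ltAll 12 [] = 0 ∧ apW w_P (List.replicate 1 7) 1 ≠ apW w_P [] 1 := by decide +kernel
theorem x_lt : H16.allL (ltAll 10) x_W = true := by decide +kernel
theorem h_lt : H16.allL (ltAll 10) h_W = true := by decide +kernel
theorem xa_k : ∀ i < 2, fixL x_P 2 H15.MM23.B (List.replicate 3 i) = 0 ∧ ∀ j < 2, eqL x_P 2 H15.MM23.B [j, i] [i, j] = 0 := by decide +kernel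
theorem x1_k : 1 < 24 ∧ ltAll 2 (List.replicate 1 0) = 0 ∧ ltAll 2 [] = 0 ∧ apW x_P (List.replicate 1 0) 1 ≠ apW x_P [] 1 := by decide +kernel
theorem h1_k : eqL h_P 2 H15.MM23.B [nat_lit 1, nat_lit 1] [nat_lit 0] = 0 := by decide +kernel
theorem h2_k : fixL h_P 2 H15.MM23.B (List.replicate 2 0) = 0 := by decide +kernel
theorem h3_k : cjL x_P h_P 2 H15.MM23.B 0 [nat_lit 0, nat_lit 0] [nat_lit 0] = 0 := by decide +kernel
theorem h4_k : cjL x_P h_P 2 H15.MM23.B 0 [nat_lit 1, nat_lit 1] [nat_lit 1] = 0 := by decide +kernel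
theorem h5_k : allZ (fun j => cjL x_P h_P 2 H15.MM23.B 1 [j] (nth [] [[nat_lit 1],
  [nat_lit 0, nat_lit 0]] j)) 0 2 = true := by decide +kernel
theorem y2_lt : H16.allL (ltAll 5) y2_W = true := by decide +kernel
theorem b2e_k : Nat.add (ltAll 6 [nat_lit 3, nat_lit 4, nat_lit 0, nat_lit 3, nat_lit 4, nat_lit 5, nat_lit 5, nat_lit 5, nat_lit 0, nat_lit 5]) (sumL (fun β => Nat.xor (h_P 1 β) (apW y2_P [nat_lit 3, nat_lit 4, nat_lit 0, nat_lit 3, nat_lit 4, nat_lit 5, nat_lit 5, nat_lit 5, nat_lit 0, nat_lit 5] β)) H15.MM23.B) = 0 := by decide +kernel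
theorem b2d_k : eqL y2_P 6 H15.MM23.B [nat_lit 3, nat_lit 4, nat_lit 3, nat_lit 4, nat_lit 5, nat_lit 5, nat_lit 5, nat_lit 5] [] = 0 := by decide +kernel
theorem fr_lt : H16.allL (ltAll 10) fr_W = true := by decide +kernel
theorem f1_k : fixL fr_P 2 H15.MM23.B (List.replicate 11 0) = 0 := by decide +kernel
theorem f2_k : fixL fr_P 2 H15.MM23.B (List.replicate 5 1) = 0 := by decide +kernel
theorem f3_k : eqL fr_P 2 H15.MM23.B [nat_lit 0, nat_lit 1] [nat_lit 1, nat_lit 0, nat_lit 0, nat_lit 0] = 0 := by decide +kernel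
theorem f5_k : 0 < 24 ∧ ltAll 2 [nat_lit 0, nat_lit 1] = 0 ∧ ltAll 2 [nat_lit 1, nat_lit 0] = 0 ∧ apW fr_P [nat_lit 0, nat_lit 1] 0 ≠ apW fr_P [nat_lit 1, nat_lit 0] 0 := by decide +kernel
theorem c0f_lt : H16.allL (ltAll 10) c0f_W = true := by decide +kernel
theorem c0r_k : eqL c0f_P 4 H15.MM23.B [nat_lit 2, nat_lit 0] [nat_lit 3, nat_lit 2] = 0 := by decide +kernel
theorem c0s_k : eqL c0f_P 4 H15.MM23.B [nat_lit 1, nat_lit 3, nat_lit 1, nat_lit 3] [] = 0 := by decide +kernel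
theorem c0p_k : fixL c0f_P 4 H15.MM23.B (List.replicate 5 1) = 0 := by decide +kernel
theorem c0q_k : fixL c0f_P 4 H15.MM23.B (List.replicate 2 3) = 0 := by decide +kernel

theorem pt_act {G Ω : Type*} [Group G] [MulAction G Ω] {g : ℕ → G} {pt : ℕ → Ω}
    (M : Md g pt H15.IC.M23.c0ace_P 24 5 H15.MM23.B 2688) : Act (wds g pt_W) pt pt_P 24 7 :=
  M.wact pt_lt
theorem p_r : ∀ k < 7, ∀ i < 21, (resEnt pt_P pP pE pI (nat_lit 24) (nat_lit 21)) k i = 0 := allZ2_sound p_r_a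
theorem p_sm {G Ω : Type*} [Group G] [MulAction G Ω] {g : ℕ → G} {pt : ℕ → Ω}
    (M : Md g pt H15.IC.M23.c0ace_P 24 5 H15.MM23.B 2688) : Sm (wds g pt_W) (fun i => pt (pE i)) pP 21 7 pB ∧ ∀ i < 21, pE i < 24 :=
  M.res (pt_act M) (by decide) p_r p_b
theorem pl0_e : ∀ i < 15, (dent pl0 (wdsP pP pe) (nat_lit 21)) i = 0 := allZ_sound0 pl0_e_0
theorem pl0_ok : DOK pl0 (wdsP pP pe) 21 := ⟨pl0_h, pl0_e⟩
theorem pl1_e : ∀ i < 7, (dent pl1 (wdsP pP pe) (nat_lit 21)) i = 0 := allZ_sound0 pl1_e_0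
theorem pl1_ok : DOK pl1 (wdsP pP pe) 21 := ⟨pl1_h, pl1_e⟩
theorem p_low {G Ω : Type*} [Group G] [MulAction G Ω] {g : ℕ → G} {pt : ℕ → Ω}
    (M : Md g pt H15.IC.M23.c0ace_P 24 5 H15.MM23.B 2688) : SLow (gi (wds (wds g pt_W) pe)) (fun i => pt (pE i)) 21 [pl0, pl1] :=
  ((SLow.nil).cons pl1_ok ((p_sm M).1.act.wds p_e 29) p_f1).cons pl0_ok ((p_sm M).1.act.wds p_e 29) p_f0
theorem p_pc {G Ω : Type*} [Group G] [MulAction G Ω] {g : ℕ → G} {pt : ℕ → Ω}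
    (M : Md g pt H15.IC.M23.c0ace_P 24 5 H15.MM23.B 2688) : PC (wds g pt_W) 7 2 :=
  have := M.fin
  ((p_sm M).1.pc0 (by decide) p_p).pc (p_low M) (p_sm M).1.inj
    (fun k => evA_mem_gen _ (nth_lt p_e k)) M.card ⟨by decide, p_c⟩
theorem cvr_act {G Ω : Type*} [Group G] [MulAction G Ω] {g : ℕ → G} {pt : ℕ → Ω}
    (M : Md g pt H15.IC.M23.c0ace_P 24 5 H15.MM23.B 2688) : Act (wds g cvr_W) pt cvr_P 24 3 :=
  M.wact cvr_lt
theorem cv_0 {G Ω : Type*} [Group G] [MulAction G Ω] {g : ℕ → G} {pt : ℕ → Ω}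
    (M : Md g pt H15.IC.M23.c0ace_P 24 5 H15.MM23.B 2688) : H0.TR.Cov (wds g pt_W) (wds g cvr_W) 2 3 7 (evA (wds g pt_W) []) :=
  have := M.fin
  cvT0.cov M (p_sm M).1 (p_sm M).2 (cvr_act M) (p_pc M) _ _ cv_c0
theorem cv {G Ω : Type*} [Group G] [MulAction G Ω] {g : ℕ → G} {pt : ℕ → Ω}
    (M : Md g pt H15.IC.M23.c0ace_P 24 5 H15.MM23.B 2688) {y : G} {e : ℕ} (hy : y ^ 2 ^ e = 1) (hq : y ^ 2 = 1) : Good (wds g cvr_W) 3 y :=
  have := M.fin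
  H0.TR.Cov.all (p_pc M) (cv_0 M) hy hq
theorem cz {G : Type} {Ω : Type*} [Group G] [MulAction G Ω] {g : ℕ → G} {pt : ℕ → Ω}
    (M : Md g pt H15.MM23.P 24 10 H15.MM23.B 10200960) : Subgroup.centralizer {(wds g H15.IC.M23.covr_W) 0} = (gen (wds g H15.IC.M23.c0ace_W) 5) :=
  have := M.fin
  H15.IC.M23.c0ac_c.2 ▸ (H15.IC.M23.c0ac M).cent1
theorem cc {G : Type} {Ω : Type*} [Group G] [MulAction G Ω] {g : ℕ → G} {pt : ℕ → Ω}
    (M : Md g pt H15.MM23.P 24 10 H15.MM23.B 10200960) : ∀ y ∈ (gen (wds g H15.IC.M23.c0ace_W) 5), y ^ 2 = 1 → y ≠ 1 → ∃ r < 3, ∃ a ∈ (gen (wds g H15.IC.M23.c0ace_W) 5), a * y * a⁻¹ = (wds (wds g H15.IC.M23.c0ace_W) cvr_W) r :=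
  have := M.fin
  fun _ => H28.FF.sub_cov M (H15.IC.M23.c0ace_act M) (H15.IC.M23.c0ac_eq M).2 cvr_lt fun _ _ M _ hy => cv M (e := 1) hy hy
theorem w_act {G Ω : Type*} [Group G] [MulAction G Ω] {g : ℕ → G} {pt : ℕ → Ω}
    (M : Md g pt H15.MM23.P 24 10 H15.MM23.B 10200960) : Act (wds g w_W) pt w_P 24 12 :=
  M.wact w_lt
theorem v_act {G Ω : Type*} [Group G] [MulAction G Ω] {g : ℕ → G} {pt : ℕ → Ω}
    (M : Md g pt H15.MM23.P 24 10 H15.MM23.B 10200960) : Act (wds g v_W) pt v_P 24 4 :=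
  M.wact v_lt
theorem t_k : ∀ k < 4, ∀ i < 16, (tupEnt v_P tT tN (nat_lit 24) (nat_lit 16) (nat_lit 6)) k i = 0 := allZ2_sound t_k_a
theorem t_card {G Ω : Type*} [Group G] [MulAction G Ω] {g : ℕ → G} {pt : ℕ → Ω}
    (M : Md g pt H15.MM23.P 24 10 H15.MM23.B 10200960) : Nat.card (gen (wds g v_W) 4) ≤ 16 :=
  tup_card M (v_act M) t_k t_b
theorem nv_k : ∀ k < 5, ∀ i < 4, (nrmEnt v_P H15.IC.M23.c0ace_P (nat_lit 4) H15.MM23.B nvW) k i = 0 := allZ2_sound nv_k_a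
theorem nv {G Ω : Type*} [Group G] [MulAction G Ω] {g : ℕ → G} {pt : ℕ → Ω}
    (M : Md g pt H15.MM23.P 24 10 H15.MM23.B 10200960) : (gen (wds g H15.IC.M23.c0ace_W) 5) ≤ Subgroup.normalizer ((gen (wds g v_W) 4) : Set G) :=
  norms M (v_act M) (H15.IC.M23.c0ace_act M) nv_k
theorem rv0 {G Ω : Type*} [Group G] [MulAction G Ω] {g : ℕ → G} {pt : ℕ → Ω}
    (M : Md g pt H15.MM23.P 24 10 H15.MM23.B 10200960) : (wds (wds g H15.IC.M23.c0ace_W) cvr_W) 0 = evA (wds g v_W) [0, 1] ∧ (wds (wds g H15.IC.M23.c0ace_W) cvr_W) 0 ∈ gen (wds g v_W) 4 :=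
  M.eqw (v_act M) ((H15.IC.M23.c0ace_act M).wds cvr_lt 3) (by decide) rv0_k
theorem rv1 {G Ω : Type*} [Group G] [MulAction G Ω] {g : ℕ → G} {pt : ℕ → Ω}
    (M : Md g pt H15.MM23.P 24 10 H15.MM23.B 10200960) : (wds (wds g H15.IC.M23.c0ace_W) cvr_W) 1 = evA (wds g v_W) [0] ∧ (wds (wds g H15.IC.M23.c0ace_W) cvr_W) 1 ∈ gen (wds g v_W) 4 :=
  M.eqw (v_act M) ((H15.IC.M23.c0ace_act M).wds cvr_lt 3) (by decide) rv1_k
theorem rw0 {G Ω : Type*} [Group G] [MulAction G Ω] {g : ℕ → G} {pt : ℕ → Ω}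
    (M : Md g pt H15.MM23.P 24 10 H15.MM23.B 10200960) : (wds (wds g H15.IC.M23.c0ace_W) cvr_W) 0 = evA (wds g w_W) [0] ∧ (wds (wds g H15.IC.M23.c0ace_W) cvr_W) 0 ∈ gen (wds g w_W) 12 :=
  M.eqw (w_act M) ((H15.IC.M23.c0ace_act M).wds cvr_lt 3) (by decide) rw0_k
theorem rw1 {G Ω : Type*} [Group G] [MulAction G Ω] {g : ℕ → G} {pt : ℕ → Ω}
    (M : Md g pt H15.MM23.P 24 10 H15.MM23.B 10200960) : (wds (wds g H15.IC.M23.c0ace_W) cvr_W) 1 = evA (wds g w_W) [1] ∧ (wds (wds g H15.IC.M23.c0ace_W) cvr_W) 1 ∈ gen (wds g w_W) 12 :=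
  M.eqw (w_act M) ((H15.IC.M23.c0ace_act M).wds cvr_lt 3) (by decide) rw1_k
theorem n0 {G Ω : Type*} [Group G] [MulAction G Ω] {g : ℕ → G} {pt : ℕ → Ω}
    (M : Md g pt H15.MM23.P 24 10 H15.MM23.B 10200960) : (wds g w_W) 0 ^ 1 ≠ 1 :=
  M.npw (w_act M) _ n0_k
theorem c9 {G Ω : Type*} [Group G] [MulAction G Ω] {g : ℕ → G} {pt : ℕ → Ω}
    (M : Md g pt H15.MM23.P 24 10 H15.MM23.B 10200960) : evA (wds g w_W) [0, 9] = evA (wds g w_W) [9, 0] :=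
  M.eq_of (w_act M) c9_k
theorem c10 {G Ω : Type*} [Group G] [MulAction G Ω] {g : ℕ → G} {pt : ℕ → Ω}
    (M : Md g pt H15.MM23.P 24 10 H15.MM23.B 10200960) : evA (wds g w_W) [0, 10] = evA (wds g w_W) [10, 0] :=
  M.eq_of (w_act M) c10_k
theorem c11 {G Ω : Type*} [Group G] [MulAction G Ω] {g : ℕ → G} {pt : ℕ → Ω}
    (M : Md g pt H15.MM23.P 24 10 H15.MM23.B 10200960) : evA (wds g w_W) [0, 11] = evA (wds g w_W) [11, 0] :=
  M.eq_of (w_act M) c11_k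
theorem j2 {G Ω : Type*} [Group G] [MulAction G Ω] {g : ℕ → G} {pt : ℕ → Ω}
    (M : Md g pt H15.MM23.P 24 10 H15.MM23.B 10200960) : evA (wds g w_W) [1, 9] = evA (wds g w_W) [9, 2] :=
  M.eq_of (w_act M) j2_k
theorem j3 {G Ω : Type*} [Group G] [MulAction G Ω] {g : ℕ → G} {pt : ℕ → Ω}
    (M : Md g pt H15.MM23.P 24 10 H15.MM23.B 10200960) : evA (wds g w_W) [1, 10] = evA (wds g w_W) [10, 3] :=
  M.eq_of (w_act M) j3_k
theorem j4 {G Ω : Type*} [Group G] [MulAction G Ω] {g : ℕ → G} {pt : ℕ → Ω}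
    (M : Md g pt H15.MM23.P 24 10 H15.MM23.B 10200960) : evA (wds g w_W) [1, 11] = evA (wds g w_W) [11, 4] :=
  M.eq_of (w_act M) j4_k
theorem j5 {G Ω : Type*} [Group G] [MulAction G Ω] {g : ℕ → G} {pt : ℕ → Ω}
    (M : Md g pt H15.MM23.P 24 10 H15.MM23.B 10200960) : evA (wds g w_W) [1, 8] = evA (wds g w_W) [8, 5] :=
  M.eq_of (w_act M) j5_k
theorem j6 {G Ω : Type*} [Group G] [MulAction G Ω] {g : ℕ → G} {pt : ℕ → Ω}
    (M : Md g pt H15.MM23.P 24 10 H15.MM23.B 10200960) : evA (wds g w_W) [2, 8] = evA (wds g w_W) [8, 6] :=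
  M.eq_of (w_act M) j6_k
theorem ze {G Ω : Type*} [Group G] [MulAction G Ω] {g : ℕ → G} {pt : ℕ → Ω}
    (M : Md g pt H15.MM23.P 24 10 H15.MM23.B 10200960) : (wds g w_W) 7 = evA (wds g w_W) [1, 5, 2, 6] ∧ (wds g w_W) 7 ∈ gen (wds g w_W) 12 :=
  M.eqw (w_act M) (w_act M) (by decide) ze_k
theorem z1 {G Ω : Type*} [Group G] [MulAction G Ω] {g : ℕ → G} {pt : ℕ → Ω}
    (M : Md g pt H15.MM23.P 24 10 H15.MM23.B 10200960) : (wds g w_W) 7 ^ 11 = 1 :=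
  M.pw (w_act M) z1_k
theorem z2 {G Ω : Type*} [Group G] [MulAction G Ω] {g : ℕ → G} {pt : ℕ → Ω}
    (M : Md g pt H15.MM23.P 24 10 H15.MM23.B 10200960) : (wds g w_W) 7 ^ 1 ≠ 1 :=
  M.npw (w_act M) _ z2_k
theorem x_act {G Ω : Type*} [Group G] [MulAction G Ω] {g : ℕ → G} {pt : ℕ → Ω}
    (M : Md g pt H15.MM23.P 24 10 H15.MM23.B 10200960) : Act (wds g x_W) pt x_P 24 2 :=
  M.wact x_lt
theorem h_act {G Ω : Type*} [Group G] [MulAction G Ω] {g : ℕ → G} {pt : ℕ → Ω}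
    (M : Md g pt H15.MM23.P 24 10 H15.MM23.B 10200960) : Act (wds g h_W) pt h_P 24 2 :=
  M.wact h_lt
theorem x1 {G Ω : Type*} [Group G] [MulAction G Ω] {g : ℕ → G} {pt : ℕ → Ω}
    (M : Md g pt H15.MM23.P 24 10 H15.MM23.B 10200960) : (wds g x_W) 0 ^ 1 ≠ 1 :=
  M.npw (x_act M) _ x1_k
theorem h1 {G Ω : Type*} [Group G] [MulAction G Ω] {g : ℕ → G} {pt : ℕ → Ω}
    (M : Md g pt H15.MM23.P 24 10 H15.MM23.B 10200960) : evA (wds g h_W) [1, 1] = evA (wds g h_W) [0] :=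
  M.eq_of (h_act M) h1_k
theorem h2 {G Ω : Type*} [Group G] [MulAction G Ω] {g : ℕ → G} {pt : ℕ → Ω}
    (M : Md g pt H15.MM23.P 24 10 H15.MM23.B 10200960) : (wds g h_W) 0 ^ 2 = 1 :=
  M.pw (h_act M) h2_k
theorem h3 {G Ω : Type*} [Group G] [MulAction G Ω] {g : ℕ → G} {pt : ℕ → Ω}
    (M : Md g pt H15.MM23.P 24 10 H15.MM23.B 10200960) : (wds g h_W) 0 * evA (wds g x_W) [0, 0] = evA (wds g x_W) [0] * (wds g h_W) 0 :=
  M.cjw (x_act M) (h_act M) (by decide) h3_k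
theorem h4 {G Ω : Type*} [Group G] [MulAction G Ω] {g : ℕ → G} {pt : ℕ → Ω}
    (M : Md g pt H15.MM23.P 24 10 H15.MM23.B 10200960) : (wds g h_W) 0 * evA (wds g x_W) [1, 1] = evA (wds g x_W) [1] * (wds g h_W) 0 :=
  M.cjw (x_act M) (h_act M) (by decide) h4_k
theorem h5 {G Ω : Type*} [Group G] [MulAction G Ω] {g : ℕ → G} {pt : ℕ → Ω}
    (M : Md g pt H15.MM23.P 24 10 H15.MM23.B 10200960) : (wds g h_W) 1 ∈ Subgroup.normalizer (gen (wds g x_W) 2 : Set G) :=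
  M.norm (x_act M) (h_act M) (by decide) h5_k
theorem f4 (k : Kit) {G : Type} {Ω : Type*} [Group G] [MulAction G Ω] {g : ℕ → G} {pt : ℕ → Ω}
    (M : Md g pt H15.MM23.P 24 10 H15.MM23.B 10200960) (W : Mo G) : (wds g h_W) 1 ∉ W.Nz ((wds g H15.IC.M23.covr_W) 0) :=
  have := M.fin
  f4g k (f := (wds g h_W)) (x := (wds g x_W)) W (ab_of M (x_act M) xa_k) (x1 M) (h1 M) (h2 M) (h3 M) (h4 M) (h5 M)
theorem b2e {G Ω : Type*} [Group G] [MulAction G Ω] {g : ℕ → G} {pt : ℕ → Ω}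
    (M : Md g pt H15.MM23.P 24 10 H15.MM23.B 10200960) : (wds g h_W) 1 = evA (wds (wds g H15.IC.M23.c0ace_W) y2_W) [3, 4, 0, 3, 4, 5, 5, 5, 0, 5] ∧ (wds g h_W) 1 ∈ gen (wds (wds g H15.IC.M23.c0ace_W) y2_W) 6 :=
  M.eqw ((H15.IC.M23.c0ace_act M).wds y2_lt 6) (h_act M) (by decide) b2e_k
theorem b2d {G Ω : Type*} [Group G] [MulAction G Ω] {g : ℕ → G} {pt : ℕ → Ω}
    (M : Md g pt H15.MM23.P 24 10 H15.MM23.B 10200960) : evA (wds (wds g H15.IC.M23.c0ace_W) y2_W) [3, 4, 3, 4, 5, 5, 5, 5] = evA (wds (wds g H15.IC.M23.c0ace_W) y2_W) [] :=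
  M.eq_of ((H15.IC.M23.c0ace_act M).wds y2_lt 6) b2d_k
theorem b2 (k : Kit) {G : Type} {Ω : Type*} [Group G] [MulAction G Ω] {g : ℕ → G} {pt : ℕ → Ω}
    (M : Md g pt H15.MM23.P 24 10 H15.MM23.B 10200960) (W : Mo G) : (wds (wds g H15.IC.M23.c0ace_W) cvr_W) 2 ∉ W.Nz ((wds g H15.IC.M23.covr_W) 0) :=
  have := M.fin
  bad k (f := (wds (wds g H15.IC.M23.c0ace_W) y2_W)) W (f4 k M W) (fun j => (cz M).ge (evA_mem_gen _ (nth_lt y2_lt j))) (b2e M).1 (b2d M)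
theorem t0 (k : Kit) {G : Type} {Ω : Type*} [Group G] [MulAction G Ω] {g : ℕ → G} {pt : ℕ → Ω}
    (M : Md g pt H15.MM23.P 24 10 H15.MM23.B 10200960) (W : Mo G) : ∀ s ∈ W.Nz ((wds g H15.IC.M23.covr_W) 0), s ^ 2 = 1 → s ∈ (gen (wds g v_W) 4) :=
  have := M.fin
  fun s hs h => (em (s = 1)).elim (· ▸ one_mem _) fun s1 => by
    obtain ⟨r, l, a, ha, e⟩ := cc M s ((cz M).le hs.1) h s1
    have m := e ▸ W.nz_conj k ((cz M).ge ha) hs
    refine (Subgroup.mem_normalizer_iff.1 (nv M ha) s).2 (e ▸ ?_)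
    match r, l, m with
    | 0, _, _ => exact (rv0 M).2 | 1, _, _ => exact (rv1 M).2 
    | 2, _, m => exact absurd m (b2 k M W)
theorem tk (k : Kit) {G : Type} {Ω : Type*} [Group G] [MulAction G Ω] {g : ℕ → G} {pt : ℕ → Ω}
    (M : Md g pt H15.MM23.P 24 10 H15.MM23.B 10200960) (W : Mo G) (D : Subgroup G) (T : H28.FF.TI D)
    (le : D ≤ W.Nz ((wds g H15.IC.M23.covr_W) 0)) (hb : (wds g H15.IC.M23.covr_W) 0 ∈ D) (h2 : 2 < Nat.card D) : 10 ≤ 2 * W.e D :=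
  have := M.fin
  by
    have h1 : (wds g w_W) 1 ∈ D := by
      obtain ⟨r, l, m, n⟩ := T.second h2 hb (n0 M) (cz M) (cc M)
      match r, l, m, n with
      | 0, _, _, n => exact absurd ((rw0 M).1.trans (one_mul _)) n
      | 1, _, m, _ => exact (rw1 M).1.trans (one_mul _) ▸ m
      | 2, _, m, _ => exact absurd (le m) (b2 k M W)
    have h2 := tcj T (f := (wds g w_W)) (s := 0) (c := 9) (v := 1) (w := 2) hb (n0 M) (c9 M) h1 (j2 M)
    exact H28.FF.e_two k W (c := (wds g w_W) 8) ((ze M).1 ▸ evA_mem _ (List.forall_mem_cons.2 ⟨Subgroup.mem_sup_left h1, List.forall_mem_cons.2 ⟨ccj (f := (wds g w_W)) (c := 8) (v := 1) (w := 5) h1 (j5 M), List.forall_mem_cons.2 ⟨Subgroup.mem_sup_left h2, List.forall_mem_cons.2 ⟨ccj (f := (wds g w_W)) (c := 8) (v := 2) (w := 6) h2 (j6 M), List.forall_mem_nil _⟩⟩⟩⟩))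
      (H28.FF.lb_p k od11 (z1 M) (z2 M) (by decide))
theorem fr_act {G Ω : Type*} [Group G] [MulAction G Ω] {g : ℕ → G} {pt : ℕ → Ω}
    (M : Md g pt H15.MM23.P 24 10 H15.MM23.B 10200960) : Act (wds g fr_W) pt fr_P 24 2 :=
  M.wact fr_lt
theorem f1 {G Ω : Type*} [Group G] [MulAction G Ω] {g : ℕ → G} {pt : ℕ → Ω}
    (M : Md g pt H15.MM23.P 24 10 H15.MM23.B 10200960) : (wds g fr_W) 0 ^ 11 = 1 :=
  M.pw (fr_act M) f1_k
theorem f2 {G Ω : Type*} [Group G] [MulAction G Ω] {g : ℕ → G} {pt : ℕ → Ω}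
    (M : Md g pt H15.MM23.P 24 10 H15.MM23.B 10200960) : (wds g fr_W) 1 ^ 5 = 1 :=
  M.pw (fr_act M) f2_k
theorem f3 {G Ω : Type*} [Group G] [MulAction G Ω] {g : ℕ → G} {pt : ℕ → Ω}
    (M : Md g pt H15.MM23.P 24 10 H15.MM23.B 10200960) : evA (wds g fr_W) [0, 1] = evA (wds g fr_W) [1, 0, 0, 0] :=
  M.eq_of (fr_act M) f3_k
theorem f5 {G Ω : Type*} [Group G] [MulAction G Ω] {g : ℕ → G} {pt : ℕ → Ω}
    (M : Md g pt H15.MM23.P 24 10 H15.MM23.B 10200960) : evA (wds g fr_W) [0, 1] ≠ evA (wds g fr_W) [1, 0] :=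
  M.nrel (fr_act M) _ f5_k
theorem l5 (k : Kit) {G : Type} {Ω : Type*} [Group G] [MulAction G Ω] {g : ℕ → G} {pt : ℕ → Ω}
    (M : Md g pt H15.MM23.P 24 10 H15.MM23.B 10200960) : LB ((wds g fr_W) 1) 8 :=
  have := M.fin
  lb_frob k (f := (wds g fr_W)) (x := 0) (t := 1) (e := 3) od11 (f1 M) (f2 M) (f3 M) (f5 M) (by decide)
theorem c0f_act {G Ω : Type*} [Group G] [MulAction G Ω] {g : ℕ → G} {pt : ℕ → Ω}
    (M : Md g pt H15.MM23.P 24 10 H15.MM23.B 10200960) : Act (wds g c0f_W) pt c0f_P 24 4 :=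
  M.wact c0f_lt
theorem c0r {G Ω : Type*} [Group G] [MulAction G Ω] {g : ℕ → G} {pt : ℕ → Ω}
    (M : Md g pt H15.MM23.P 24 10 H15.MM23.B 10200960) : evA (wds g c0f_W) [2, 0] = evA (wds g c0f_W) [3, 2] :=
  M.eq_of (c0f_act M) c0r_k
theorem c0s {G Ω : Type*} [Group G] [MulAction G Ω] {g : ℕ → G} {pt : ℕ → Ω}
    (M : Md g pt H15.MM23.P 24 10 H15.MM23.B 10200960) : evA (wds g c0f_W) [1, 3, 1, 3] = evA (wds g c0f_W) [] :=
  M.eq_of (c0f_act M) c0s_k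
theorem c0p {G Ω : Type*} [Group G] [MulAction G Ω] {g : ℕ → G} {pt : ℕ → Ω}
    (M : Md g pt H15.MM23.P 24 10 H15.MM23.B 10200960) : (wds g c0f_W) 1 ^ 5 = 1 :=
  M.pw (c0f_act M) c0p_k
theorem c0q {G Ω : Type*} [Group G] [MulAction G Ω] {g : ℕ → G} {pt : ℕ → Ω}
    (M : Md g pt H15.MM23.P 24 10 H15.MM23.B 10200960) : (wds g c0f_W) 3 ^ 2 = 1 :=
  M.pw (c0f_act M) c0q_k
theorem c0 (k : Kit) {G : Type} {Ω : Type*} [Group G] [MulAction G Ω] {g : ℕ → G} {pt : ℕ → Ω}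
    (M : Md g pt H15.MM23.P 24 10 H15.MM23.B 10200960) : LB ((wds g H15.IC.M23.covr_W) 0) 4 :=
  have := M.fin
  lb_cj k (f := (wds g c0f_W)) (w := 2) (a := 0) (b := 3) (c0r M) (lb_inv k (f := (wds g c0f_W)) (x := 1) (b := 3) (m := 8) (p := 5) (l5 k M) (c0p M) (c0q M) (c0s M) (by decide))
theorem dl (k : Kit) {G : Type} {Ω : Type*} [Group G] [MulAction G Ω] {g : ℕ → G} {pt : ℕ → Ω}
    (M : Md g pt H15.MM23.P 24 10 H15.MM23.B 10200960) : DL G 4 :=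
  have := M.fin
  dl_reps k (f := (wds g H15.IC.M23.covr_W)) (r := 1) (fun _ hy => H15.IC.M23.cov M (e := 1) hy hy) fun i hi => match i, hi with | 0, _ => c0 k M
theorem nf (k : Kit) : Sp Cfsg.Spor.IsoM23 := fun _ _ _ h => k.r.congr (G := Cfsg.Spor.M23) (by
  obtain ⟨_, g, M, -⟩ := H15.IC.M23.md (MulEquiv.subgroupCongr H15.MM23.gen_eq)
  have := M.fin
  have := H15.simple_M23
  refine nf22 k (dl k M) (rk_out k (a := 1) Cfsg.Agent.S2063.result (by decide)) (fun y hy y1 => ?_) (t_card M) (t0 k M) (tk k M)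
    fun Y _ L _ e c y => cen_inner Subgroup.topEquiv (cbot' (by rw [M.card]; decide)) (by rw [Cfsg.Agent.S2063.result, one_mul]) e c fun _ _ => trivial
  obtain ⟨r, l, c⟩ := (H15.IC.M23.cov M (e := 1) hy hy).resolve_left y1
  match r, l, c with | 0, _, c => exact c) h

end H15.FF.M23
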